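/-
Kernels of stem extensions of small groups with dihedral or quaternion Sylow two-subgroups and
abelian Sylow three-subgroups of rank two, and fibre products of stem extensions.
-/
import Mathlib
import Cfsg.Agent.Lib.StemSylow.Basic

set_option autoImplicit false
set_option linter.style.haveILetI false

namespace CfsgLib.AltMult

open Subgroup
open scoped commutatorElement

universe u v w

variable {G : Type v} [Group G] {Γ : Type u} [Group Γ] [Finite Γ] {σ : Γ →* G}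

/-- Lifts of a pair with `b a b⁻¹ = a⁻¹`. -/
theorem inverted_pair (hσ : Cfsg.IsStemExtension σ) {a b : G} (hab : b * a * b⁻¹ = a⁻¹) {A B : Γ}
    (hA : σ A = a) (hB : σ B = b) {n : ℕ} (hn : Commute (A ^ n) B) :
    ∃ C : Γ, σ C = a ^ 2 ∧ C ^ n = 1 ∧
      ∀ z ∈ σ.ker, z ^ (closure ({a, b} : Set G)).index ∈ zpowers C := by
  set C := ⁅A, B⁆ with hC
  have hσC : σ C = a ^ 2 := by
    rw [hC, map_commutatorElement, hA, hB, commutatorElement_def,
      show a * b * a⁻¹ * b⁻¹ = a * (b * a * b⁻¹)⁻¹ by group, hab, inv_inv, sq]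
  set w := (A ^ 2)⁻¹ * C with hw
  have hwk : w ∈ σ.ker := by
    rw [MonoidHom.mem_ker, hw, map_mul, map_inv, map_pow, hA, hσC, inv_mul_cancel]
  have hwc : ∀ g, Commute g w := fun g => mem_center_iff.mp (hσ.2.1 hwk) g
  have hCe : C = A ^ 2 * w := by rw [hw, mul_inv_cancel_left]
  have hAC : Commute A C := by rw [hCe]; exact ((Commute.refl A).pow_right 2).mul_right (hwc A)
  have hBA : B * A * B⁻¹ = C⁻¹ * A := by
    have e : B * A * B⁻¹ = (A⁻¹ * C)⁻¹ := by rw [hC, commutatorElement_def]; group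
    rw [e, mul_inv_rev, inv_inv]
  have hBC : B * C * B⁻¹ = C⁻¹ := by
    calc B * C * B⁻¹ = (B * A * B⁻¹) ^ 2 * (B * w * B⁻¹) := by rw [hCe, sq, sq]; group
      _ = (C⁻¹ * A) ^ 2 * w := by rw [hBA, (hwc B).eq, mul_inv_cancel_right]
      _ = C⁻¹ * C⁻¹ * (A ^ 2 * w) := by
        rw [(hAC.inv_right.symm).mul_pow, sq C⁻¹]; simp only [mul_assoc]
      _ = C⁻¹ := by rw [← hCe, mul_assoc, inv_mul_cancel, mul_one]
  refine ⟨C, hσC, CfsgLib.StemSylow.comm_pow_eq_one hAC hn, fun z hz => ?_⟩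
  set P := closure ({a, b} : Set G) with hP
  set H := P.comap σ with hH
  have hgenH : H = closure {A, B} ⊔ σ.ker := by
    rw [hH, hP, ← CfsgLib.StemSylow.comap_eq, Set.image_pair, hA, hB]
  have hAH : A ∈ H := hgenH ▸ mem_sup_left (subset_closure (Or.inl rfl))
  have hBH : B ∈ H := hgenH ▸ mem_sup_left (subset_closure (Or.inr rfl))
  have hkH : σ.ker ≤ H := hgenH ▸ le_sup_right
  have hCH : C ∈ H := mul_mem (mul_mem (mul_mem hAH hBH) (inv_mem hAH)) (inv_mem hBH)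
  have hgen : closure ({⟨A, hAH⟩, ⟨B, hBH⟩} : Set H) ⊔ σ.ker.subgroupOf H = ⊤ := by
    refine map_injective H.subtype_injective ?_
    rw [Subgroup.map_sup, MonoidHom.map_closure, Set.image_pair, map_subgroupOf_eq_of_le hkH, ← MonoidHom.range_eq_map,
      range_subtype]
    exact hgenH.symm
  have hcomm : commutator H ≤ zpowers (⟨C, hCH⟩ : H) := by
    refine CfsgLib.SchurSmall.commutator_le_zpowers (K := σ.ker.subgroupOf H) ?_ hgen ?_ ?_ ?_
    · intro x hx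
      exact mem_center_iff.mpr fun g => Subtype.ext (mem_center_iff.mp (hσ.2.1 hx) g)
    · refine mem_zpowers_iff.mpr ⟨-1, Subtype.ext ?_⟩
      show C ^ (-1 : ℤ) = ⁅B, A⁆
      rw [zpow_neg_one, hC, commutatorElement_inv]
    · exact mem_zpowers_iff.mpr ⟨1, Subtype.ext (by
        rw [zpow_one]; show C = A * C * A⁻¹; rw [hAC.eq, mul_inv_cancel_right])⟩
    · exact mem_zpowers_iff.mpr ⟨-1, Subtype.ext (by
        rw [zpow_neg_one]; show C⁻¹ = B * C * B⁻¹; rw [hBC])⟩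
  obtain ⟨hmem, hm⟩ := CfsgLib.StSL.pow_index_mem hσ P hz
  obtain ⟨k, hk⟩ := mem_zpowers_iff.mp (hcomm hm)
  exact mem_zpowers_iff.mpr ⟨k, congrArg Subtype.val hk⟩

/-- Dihedral subgroups of order eight leave at most two. -/
theorem two_part (hσ : Cfsg.IsStemExtension σ) {a b : G} (ha : orderOf a = 4) (hab : b * a * b⁻¹ = a⁻¹) :
    ∃ c ∈ σ.ker, c ^ 2 = 1 ∧ ∀ z ∈ σ.ker, z ^ (closure ({a, b} : Set G)).index ∈ zpowers c := by
  obtain ⟨A, hA⟩ := hσ.1 a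
  obtain ⟨B, hB⟩ := hσ.1 b
  have h4 : A ^ 4 ∈ σ.ker := by rw [MonoidHom.mem_ker, map_pow, hA, ← ha, pow_orderOf_eq_one]
  obtain ⟨C, hC, hCn, hz⟩ := inverted_pair hσ hab hA hB (n := 4) (mem_center_iff.mp (hσ.2.1 h4) B).symm
  refine ⟨C ^ 2, ?_, by rw [← pow_mul]; exact hCn, fun z hzk => ?_⟩
  · rw [MonoidHom.mem_ker, map_pow, hC, ← pow_mul, show 2 * 2 = 4 from rfl, ← ha, pow_orderOf_eq_one]
  · obtain ⟨k, hk⟩ := mem_zpowers_iff.mp (hz z hzk)
    have h := congrArg σ hk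
    rw [map_zpow, hC, map_pow, MonoidHom.mem_ker.mp hzk, one_pow, ← zpow_natCast a 2, ← zpow_mul,
      ← orderOf_dvd_iff_zpow_eq_one, ha] at h
    obtain ⟨l, rfl⟩ : (2 : ℤ) ∣ k := by omega
    exact mem_zpowers_iff.mpr ⟨l, by rw [← zpow_natCast C 2, ← zpow_mul]; exact hk⟩

/-- Quaternion subgroups of order sixteen leave nothing. -/
theorem two_part_quaternion (hσ : Cfsg.IsStemExtension σ) {a b : G} (ha : orderOf a = 8) (hb : b * b = a ^ 4)
    (hab : b * a * b⁻¹ = a⁻¹) : ∀ z ∈ σ.ker, z ^ (closure ({a, b} : Set G)).index = 1 := by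
  obtain ⟨A, hA⟩ := hσ.1 a
  obtain ⟨B, hB⟩ := hσ.1 b
  set v := (B * B)⁻¹ * A ^ 4 with hv
  have hvk : v ∈ σ.ker := by rw [MonoidHom.mem_ker, hv, map_mul, map_inv, map_mul, map_pow, hA, hB, hb, inv_mul_cancel]
  have hc : Commute (A ^ 4) B := by
    rw [show A ^ 4 = B * B * v by rw [hv, mul_inv_cancel_left]]
    exact ((Commute.refl B).mul_left (Commute.refl B)).mul_left (mem_center_iff.mp (hσ.2.1 hvk) B).symm
  obtain ⟨C, hC, hCn, hz⟩ := inverted_pair hσ hab hA hB hc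
  intro z hzk
  obtain ⟨k, hk⟩ := mem_zpowers_iff.mp (hz z hzk)
  have h := congrArg σ hk
  rw [map_zpow, hC, map_pow, MonoidHom.mem_ker.mp hzk, one_pow, ← zpow_natCast a 2, ← zpow_mul,
    ← orderOf_dvd_iff_zpow_eq_one, ha] at h
  obtain ⟨l, rfl⟩ : (4 : ℤ) ∣ k := by omega
  rw [← hk, zpow_mul, show (4 : ℤ) = ((4 : ℕ) : ℤ) from rfl, zpow_natCast, hCn, one_zpow]

/-- Elementary abelian subgroups of order nine leave at most three. -/
theorem three_part (hσ : Cfsg.IsStemExtension σ) {x y : G} (hx : x ^ 3 = 1) (hxy : Commute x y) :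
    ∃ u ∈ σ.ker, u ^ 3 = 1 ∧ ∀ z ∈ σ.ker, z ^ (closure ({x, y} : Set G)).index ∈ zpowers u := by
  obtain ⟨X, hX⟩ := hσ.1 x
  obtain ⟨Y, hY⟩ := hσ.1 y
  set u := ⁅X, Y⁆ with hu
  have huk : u ∈ σ.ker := by
    rw [MonoidHom.mem_ker, hu, map_commutatorElement, hX, hY, commutatorElement_eq_one_iff_commute]
    exact hxy
  have huc : ∀ g, Commute g u := fun g => mem_center_iff.mp (hσ.2.1 huk) g
  have hX3 : X ^ 3 ∈ σ.ker := by rw [MonoidHom.mem_ker, map_pow, hX, hx]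
  refine ⟨u, huk, CfsgLib.StemSylow.comm_pow_eq_one (huc X) (mem_center_iff.mp (hσ.2.1 hX3) Y).symm, fun z hz => ?_⟩
  set P := closure ({x, y} : Set G) with hP
  set H := P.comap σ with hH
  have hgenH : H = closure {X, Y} ⊔ σ.ker := by
    rw [hH, hP, ← CfsgLib.StemSylow.comap_eq, Set.image_pair, hX, hY]
  have hXH : X ∈ H := hgenH ▸ mem_sup_left (subset_closure (Or.inl rfl))
  have hYH : Y ∈ H := hgenH ▸ mem_sup_left (subset_closure (Or.inr rfl))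
  have hkH : σ.ker ≤ H := hgenH ▸ le_sup_right
  have hgen : closure ({⟨X, hXH⟩, ⟨Y, hYH⟩} : Set H) ⊔ σ.ker.subgroupOf H = ⊤ := by
    refine map_injective H.subtype_injective ?_
    rw [Subgroup.map_sup, MonoidHom.map_closure, Set.image_pair, map_subgroupOf_eq_of_le hkH, ← MonoidHom.range_eq_map,
      range_subtype]
    exact hgenH.symm
  have hcomm : commutator H ≤ zpowers (⟨u, hkH huk⟩ : H) := by
    refine CfsgLib.SchurSmall.commutator_le_zpowers (K := σ.ker.subgroupOf H) ?_ hgen ?_ ?_ ?_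
    · intro x hx
      exact mem_center_iff.mpr fun g => Subtype.ext (mem_center_iff.mp (hσ.2.1 hx) g)
    · refine mem_zpowers_iff.mpr ⟨-1, Subtype.ext ?_⟩
      show u ^ (-1 : ℤ) = ⁅Y, X⁆
      rw [zpow_neg_one, hu, commutatorElement_inv]
    · exact mem_zpowers_iff.mpr ⟨1, Subtype.ext (by
        rw [zpow_one]; show u = X * u * X⁻¹; rw [(huc X).eq, mul_inv_cancel_right])⟩
    · exact mem_zpowers_iff.mpr ⟨1, Subtype.ext (by
        rw [zpow_one]; show u = Y * u * Y⁻¹; rw [(huc Y).eq, mul_inv_cancel_right])⟩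
  obtain ⟨hmem, hm⟩ := CfsgLib.StSL.pow_index_mem hσ P hz
  obtain ⟨k, hk⟩ := mem_zpowers_iff.mp (hcomm hm)
  exact mem_zpowers_iff.mpr ⟨k, congrArg Subtype.val hk⟩

/-- An element whose powers at coprime exponents fill a cyclic group lies in it. -/
theorem mem_of_pow_mem (K : Subgroup Γ) {z : Γ} {l : List ℕ} (h : ∀ i ∈ l, z ^ i ∈ K)
    (hg : l.foldr Nat.gcd 0 = 1) : z ∈ K := by
  have key : ∀ l : List ℕ, (∀ i ∈ l, z ^ i ∈ K) → z ^ l.foldr Nat.gcd 0 ∈ K := by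
    intro l
    induction l with
    | nil => intro _; rw [List.foldr_nil, pow_zero]; exact one_mem K
    | cons a l ih =>
      intro h
      have h1 : z ^ (a : ℤ) ∈ K := by rw [zpow_natCast]; exact h a (List.mem_cons_self)
      have h2 : z ^ ((l.foldr Nat.gcd 0 : ℕ) : ℤ) ∈ K := by
        rw [zpow_natCast]; exact ih fun i hi => h i (List.mem_cons_of_mem _ hi)
      rw [List.foldr_cons, ← zpow_natCast, Nat.gcd_eq_gcd_ab, zpow_add, zpow_mul, zpow_mul]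
      exact mul_mem (zpow_mem h1 _) (zpow_mem h2 _)
  have := key l h
  rwa [hg, pow_one] at this

/-- A kernel element at a coprime pair of bounds. -/
theorem ker_le_pair {c e : Γ} (hce : Commute c e) (hc : c ^ 2 = 1) (he : e ^ 3 = 1) {S : Subgroup Γ}
    (hS : S = zpowers (c * e)) : zpowers c ≤ S ∧ zpowers e ≤ S := by
  subst hS
  constructor <;> rw [zpowers_le]
  · refine ⟨3, ?_⟩
    show (c * e) ^ (3 : ℤ) = c
    rw [show (3 : ℤ) = ((3 : ℕ) : ℤ) from rfl, zpow_natCast, hce.mul_pow, he, mul_one, pow_succ, hc, one_mul]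
  · refine ⟨4, ?_⟩
    show (c * e) ^ (4 : ℤ) = e
    rw [show (4 : ℤ) = ((4 : ℕ) : ℤ) from rfl, zpow_natCast, hce.mul_pow, show 4 = 2 * 2 from rfl, pow_mul, hc,
      one_pow, one_mul, show 2 * 2 = 3 + 1 from rfl, pow_succ, he, one_mul]

/-- A surjection from `ZMod n` onto a kernel inside the powers of an element of exponent `n`. -/
theorem exists_surjective {n : ℕ} {K : Subgroup Γ} {g : Γ} (hg : g ∈ K) (hn : g ^ n = 1) (hK : K ≤ zpowers g) :
    ∃ π : Multiplicative (ZMod n) →* K, Function.Surjective π := by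
  haveI hc : IsCyclic K := ⟨⟨g, hg⟩, fun x => by
    obtain ⟨k, hk⟩ := mem_zpowers_iff.mp (hK x.2)
    exact ⟨k, Subtype.ext (by simpa using hk)⟩⟩
  refine CfsgLib.SchurSmall.exists_surjective_of_cyclic hc ?_
  rw [le_antisymm hK (zpowers_le.mpr hg), Nat.card_zpowers]
  exact orderOf_dvd_of_pow_eq_one hn

/-- Commutators lift along surjections. -/
theorem exists_comm_preimage {F : Type*} [Group F] {H : Type*} [Group H] (f : F →* H) (hf : Function.Surjective f)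
    {x : H} (hx : x ∈ commutator H) : ∃ d ∈ commutator F, f d = x := by
  rw [_root_.commutator_def, ← map_top_of_surjective f hf, ← map_commutator] at hx
  exact hx

theorem pow_mul_eq_one {H : Type*} [Group H] {x : H} {m : ℕ} {k : ℤ} (h : x ^ m = 1) : x ^ ((m : ℤ) * k) = 1 := by
  rw [zpow_mul, zpow_natCast, h, one_zpow]

/-- The fibre product of two stem extensions with kernels of coprime exponents. -/
theorem fibre_stem {H₁ : Type u} {H₂ : Type w} [Group H₁] [Group H₂] (π₁ : H₁ →* G) (π₂ : H₂ →* G)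
    (h₁ : Cfsg.IsStemExtension π₁) (h₂ : Cfsg.IsStemExtension π₂) {m₁ m₂ : ℕ} (hm : Nat.Coprime m₁ m₂)
    (e₁ : ∀ x ∈ π₁.ker, x ^ m₁ = 1) (e₂ : ∀ x ∈ π₂.ker, x ^ m₂ = 1) {F : Subgroup (H₁ × H₂)}
    (hF : ∀ x, x ∈ F ↔ π₁ x.1 = π₂ x.2) :
    (∀ x : H₁, ∃ y : F, (y : H₁ × H₂).1 = x) ∧
      (∀ y : F, (y : H₁ × H₂).1 ∈ π₁.ker → y ∈ center F ∧ y ∈ commutator F) := by
  have hs₁ : ∀ x : H₁, ∃ y : F, (y : H₁ × H₂).1 = x := fun x => by
    obtain ⟨y, hy⟩ := h₂.1 (π₁ x)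
    exact ⟨⟨(x, y), (hF _).mpr hy.symm⟩, rfl⟩
  have hs₂ : ∀ x : H₂, ∃ y : F, (y : H₁ × H₂).2 = x := fun x => by
    obtain ⟨y, hy⟩ := h₁.1 (π₂ x)
    exact ⟨⟨(y, x), (hF _).mpr hy⟩, rfl⟩
  refine ⟨hs₁, fun y hy => ?_⟩
  have hy2 : (y : H₁ × H₂).2 ∈ π₂.ker := by
    rw [MonoidHom.mem_ker, ← (hF _).mp y.2]; exact hy
  refine ⟨mem_center_iff.mpr fun g => Subtype.ext (Prod.ext ?_ ?_), ?_⟩
  · exact mem_center_iff.mp (h₁.2.1 hy) _
  · exact mem_center_iff.mp (h₂.2.1 hy2) _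
  let f₁ : F →* H₁ := (MonoidHom.fst H₁ H₂).comp F.subtype
  let f₂ : F →* H₂ := (MonoidHom.snd H₁ H₂).comp F.subtype
  obtain ⟨d₁, hd₁, hd₁'⟩ : ∃ d ∈ commutator F, f₁ d = (y : H₁ × H₂).1 := exists_comm_preimage f₁ hs₁ (h₁.2.2 hy)
  obtain ⟨d₂, hd₂, hd₂'⟩ : ∃ d ∈ commutator F, f₂ d = (y : H₁ × H₂).2 := exists_comm_preimage f₂ hs₂ (h₂.2.2 hy2)
  obtain ⟨s, t, hst⟩ : ∃ s t : ℤ, (m₁ : ℤ) * s + (m₂ : ℤ) * t = 1 :=
    ⟨Nat.gcdA m₁ m₂, Nat.gcdB m₁ m₂, by rw [← Nat.gcd_eq_gcd_ab, hm.gcd_eq_one, Nat.cast_one]⟩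
  have hker : ∀ d : F, (d : H₁ × H₂).1 ∈ π₁.ker → (d : H₁ × H₂).2 ∈ π₂.ker := fun d hd => by
    rw [MonoidHom.mem_ker, ← (hF _).mp d.2]; exact hd
  have hk1 : (d₁ : H₁ × H₂).1 ∈ π₁.ker := by rw [show (d₁ : H₁ × H₂).1 = _ from hd₁']; exact hy
  have hk2 : (d₂ : H₁ × H₂).1 ∈ π₁.ker := by
    rw [MonoidHom.mem_ker, (hF _).mp d₂.2, show (d₂ : H₁ × H₂).2 = _ from hd₂']; exact hy2
  have e : y = d₁ ^ ((m₂ : ℤ) * t) * d₂ ^ ((m₁ : ℤ) * s) := by
    refine Subtype.ext (Prod.ext ?_ ?_)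
    · show (y : H₁ × H₂).1 = (d₁ : H₁ × H₂).1 ^ ((m₂ : ℤ) * t) * (d₂ : H₁ × H₂).1 ^ ((m₁ : ℤ) * s)
      rw [pow_mul_eq_one (e₁ _ hk2), mul_one, show (d₁ : H₁ × H₂).1 = _ from hd₁',
        show (m₂ : ℤ) * t = 1 - (m₁ : ℤ) * s by omega, zpow_sub, zpow_one, pow_mul_eq_one (e₁ _ hy), inv_one, mul_one]
    · show (y : H₁ × H₂).2 = (d₁ : H₁ × H₂).2 ^ ((m₂ : ℤ) * t) * (d₂ : H₁ × H₂).2 ^ ((m₁ : ℤ) * s)
      rw [pow_mul_eq_one (e₂ _ (hker _ hk1)), one_mul, show (d₂ : H₁ × H₂).2 = _ from hd₂',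
        show (m₁ : ℤ) * s = 1 - (m₂ : ℤ) * t by omega, zpow_sub, zpow_one, pow_mul_eq_one (e₂ _ hy2), inv_one, mul_one]
  rw [e]
  exact mul_mem (zpow_mem hd₁ _) (zpow_mem hd₂ _)

end CfsgLib.AltMult
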