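/-
The multipliers of the alternating groups of degrees six and seven.
-/
import Mathlib
import Cfsg.Agent.S0891
import Cfsg.Agent.Lib.AltMult.Bound
import Cfsg.Agent.Lib.AltMult.SixData
import Cfsg.Agent.Lib.AltMult.SevenData

set_option autoImplicit false
set_option maxRecDepth 10000
set_option linter.style.haveILetI false

namespace CfsgLib.AltMult

open Equiv
open scoped commutatorElement

universe u

/-- Powers of a code. -/
def cpw (k c : ℕ) : ℕ → ℕ
  | 0 => idk k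
  | t + 1 => cp k c (cpw k c t)

/-- The marked elements and the inverse codes check out. -/
def markOK (T : Tab) (inv marks : List ℕ) (odd_a odd_b : ℕ) : Bool :=
  let e : ℕ → ℕ := fun j => (T.el (marks.getD j 0)).1
  isPerm T.n T.ga.1 (inv.getD 0 0) && isPerm T.k T.ga.2 (inv.getD 1 0) && isPerm T.n T.gb.1 (inv.getD 2 0) &&
    isPerm T.k T.gb.2 (inv.getD 3 0) && isPerm T.k T.zc (inv.getD 4 0) &&
    Nat.beq (cpw T.n T.ga.1 odd_a) (idk T.n) && Nat.beq (cpw T.n T.gb.1 odd_b) (idk T.n) &&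
    Nat.beq (odd_a % 2) 1 && Nat.beq (odd_b % 2) 1 &&
    (marks.all fun i => Nat.blt i T.size) &&
    Nat.beq (cpw T.n (e 0) 4) (idk T.n) && differs T.n (cpw T.n (e 0) 2) (idk T.n) &&
    Nat.beq (cpw T.n (e 1) 2) (idk T.n) &&
    Nat.beq (cp T.n (e 1) (e 0)) (cp T.n (cpw T.n (e 0) 3) (e 1)) &&
    ((List.range 4).all fun i => differs T.n (e 1) (cpw T.n (e 0) i)) &&
    Nat.beq (cpw T.n (e 2) 3) (idk T.n) && differs T.n (e 2) (idk T.n) &&
    Nat.beq (cpw T.n (e 3) 3) (idk T.n) && Nat.beq (cp T.n (e 2) (e 3)) (cp T.n (e 3) (e 2)) &&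
    ((List.range 3).all fun i => differs T.n (e 3) (cpw T.n (e 2) i)) &&
    Nat.beq (cpw T.n (e 4) 5) (idk T.n) && differs T.n (e 4) (idk T.n) &&
    (Nat.beq T.n 6 || (Nat.beq (cpw T.n (e 5) 7) (idk T.n) && differs T.n (e 5) (idk T.n))) &&
    Nat.blt T.n 65

theorem rep_cpw {k c : ℕ} (hk : k ≤ 64) {g : Perm (Fin k)} (h : Rep k c g) : ∀ t, Rep k (cpw k c t) (g ^ t)
  | 0 => by rw [pow_zero, cpw]; exact rep_id hk
  | t + 1 => by rw [pow_succ', cpw]; exact h.comp (rep_cpw hk h t)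

theorem coe_ne {n : ℕ} {g h : alternatingGroup (Fin n)} (e : (g : Perm (Fin n)) ≠ (h : Perm (Fin n))) : g ≠ h :=
  fun he => e (congrArg Subtype.val he)

/-- The double cover, as a stem extension. -/
theorem exists_double (n : ℕ) (hn : 4 ≤ n) : ∃ (Γ : Type) (_ : Group Γ) (_ : Finite Γ)
    (σ : Γ →* alternatingGroup (Fin n)), Cfsg.IsStemExtension σ ∧ Nat.card σ.ker = 2 := by
  obtain ⟨Γ, _, _, z, hz, hzo, hzc, hn', ⟨e⟩⟩ := Cfsg.Agent.S0891.result n hn
  let π : Γ →* alternatingGroup (Fin n) := e.toMonoidHom.comp (QuotientGroup.mk' (Subgroup.zpowers z))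
  have hk : π.ker = Subgroup.zpowers z := by
    ext g
    show e (g : Γ ⧸ Subgroup.zpowers z) = 1 ↔ _
    rw [map_eq_one_iff e e.injective, QuotientGroup.eq_one_iff]
  exact ⟨Γ, inferInstance, inferInstance, π,
    ⟨e.surjective.comp (QuotientGroup.mk'_surjective _), hk ▸ Subgroup.zpowers_le.mpr hz,
      hk ▸ Subgroup.zpowers_le.mpr hzc⟩, by rw [hk, Nat.card_zpowers, hzo]⟩

/-- The facts extracted from a checked table. -/
structure Facts (n N m : ℕ) where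
  triple : ∃ (Γ : Type) (_ : Group Γ) (_ : Finite Γ) (σ : Γ →* alternatingGroup (Fin n)),
    Cfsg.IsStemExtension σ ∧ Nat.card σ.ker = 3
  bound : ∀ (Γ : Type) (_ : Group Γ) (_ : Finite Γ) (σ : Γ →* alternatingGroup (Fin n)),
    Cfsg.IsStemExtension σ → ∃ g ∈ σ.ker, g ^ 6 = 1 ∧ σ.ker ≤ Subgroup.zpowers g

theorem facts_of_table (T : Tab) (inv marks : List ℕ) (odd_a odd_b : ℕ) (hm : markOK T inv marks odd_a odd_b = true)
    (hc : T.check = true) (hn : T.n = 6 ∨ T.n = 7) (hlen : marks.length = 6) : Facts T.n T.size T.k := by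
  classical
  simp only [markOK, Bool.and_eq_true, Nat.blt_eq, List.all_eq_true, List.mem_range, Bool.or_eq_true] at hm
  obtain ⟨⟨⟨⟨⟨⟨⟨⟨⟨⟨⟨⟨⟨⟨⟨⟨⟨⟨⟨⟨⟨⟨⟨hA1, hA2⟩, hB1⟩, hB2⟩, hZ⟩, hoa⟩, hob⟩, hpa⟩, hpb⟩, hidx⟩, a4⟩, a2⟩,
    b2⟩, bab⟩, bout⟩, x3⟩, x1⟩, y3⟩, xy⟩, yout⟩, f5⟩, f51⟩, f7⟩, hn64⟩ := hm
  have hnle : T.n ≤ 64 := by omega
  have halt : ∀ {c ci t : ℕ}, isPerm T.n c ci = true → Nat.beq (cpw T.n c t) (idk T.n) = true →
      Nat.beq (t % 2) 1 = true → ∃ g : alternatingGroup (Fin T.n), Rep T.n c (g : Perm (Fin T.n)) := by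
    intro c ci t h1 h2 h3
    obtain ⟨g, hg⟩ := exists_rep h1
    have hp : g ^ t = 1 := Rep.unique (rep_cpw hnle hg t) ((Nat.eq_of_beq_eq_true h2).symm ▸ rep_id hnle)
    refine ⟨⟨g, Equiv.Perm.mem_alternatingGroup.mpr ?_⟩, hg⟩
    rcases Int.units_eq_one_or (Perm.sign g) with h | h
    · exact h
    · have := congrArg Perm.sign hp
      rw [map_pow, map_one, h, Odd.neg_one_pow (Nat.odd_iff.mpr (Nat.eq_of_beq_eq_true h3))] at this
      exact absurd this (by decide)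
  obtain ⟨ga, hga⟩ := halt hA1 hoa hpa
  obtain ⟨gb, hgb⟩ := halt hB1 hob hpb
  obtain ⟨gA, hgA⟩ := exists_rep hA2
  obtain ⟨gB, hgB⟩ := exists_rep hB2
  obtain ⟨z, hz⟩ := exists_rep hZ
  obtain ⟨Γ₀, _, _, σ₀, hcen, hcomm, hker, hel⟩ := T.exists_cover hc hga hgb hgA hgB hz
  have hmk : ∀ j < 6, marks.getD j 0 < T.size := fun j hj =>
    hidx _ (by rw [List.getD_eq_getElem _ _ (by omega)]; exact List.getElem_mem _)
  let e : ℕ → ℕ := fun j => (T.el (marks.getD j 0)).1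
  choose X hX using fun (j : ℕ) (hj : j < 6) => hel _ (hmk j hj)
  let a := σ₀ (X 0 (by norm_num)); let b := σ₀ (X 1 (by norm_num))
  let x := σ₀ (X 2 (by norm_num)); let y := σ₀ (X 3 (by norm_num))
  let f := σ₀ (X 4 (by norm_num)); let g := σ₀ (X 5 (by norm_num))
  have ra : Rep T.n (e 0) (a : Perm (Fin T.n)) := hX 0 _
  have rb : Rep T.n (e 1) (b : Perm (Fin T.n)) := hX 1 _
  have rx : Rep T.n (e 2) (x : Perm (Fin T.n)) := hX 2 _
  have ry : Rep T.n (e 3) (y : Perm (Fin T.n)) := hX 3 _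
  have rf : Rep T.n (e 4) (f : Perm (Fin T.n)) := hX 4 _
  have rg : Rep T.n (e 5) (g : Perm (Fin T.n)) := hX 5 _
  have rpow : ∀ {c : ℕ} {h : alternatingGroup (Fin T.n)}, Rep T.n c (h : Perm (Fin T.n)) → ∀ t,
      Rep T.n (cpw T.n c t) ((h ^ t : alternatingGroup (Fin T.n)) : Perm (Fin T.n)) := fun hr t => by
    rw [Subgroup.coe_pow]; exact rep_cpw hnle hr t
  have r1 : Rep T.n (idk T.n) ((1 : alternatingGroup (Fin T.n)) : Perm (Fin T.n)) := rep_id hnle
  have pone : ∀ {c : ℕ} {h : alternatingGroup (Fin T.n)}, Rep T.n c (h : Perm (Fin T.n)) → ∀ t,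
      Nat.beq (cpw T.n c t) (idk T.n) = true → h ^ t = 1 := fun hr t he =>
    Subtype.ext (Rep.unique (rpow hr t) ((Nat.eq_of_beq_eq_true he).symm ▸ r1))
  haveI : Fact (Nat.Prime 2) := ⟨Nat.prime_two⟩
  haveI : Fact (Nat.Prime 3) := ⟨Nat.prime_three⟩
  haveI : Fact (Nat.Prime 5) := ⟨Nat.prime_five⟩
  haveI : Fact (Nat.Prime 7) := ⟨by norm_num⟩
  have hao : orderOf a = 4 := orderOf_eq_prime_pow (p := 2) (n := 1)
    (coe_ne (Rep.ne (rpow ra 2) r1 a2)) (pone ra 4 a4)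
  have hbb : b ^ 2 = 1 := pone rb 2 b2
  have hba : b * a * b⁻¹ = a⁻¹ := by
    rw [mul_inv_eq_iff_eq_mul, show a⁻¹ = a ^ 3 from inv_eq_of_mul_eq_one_left (by rw [← pow_succ]; exact pone ra 4 a4)]
    exact Subtype.ext (Rep.unique (rb.comp ra) (Nat.eq_of_beq_eq_true bab ▸ (rpow ra 3).comp rb))
  have hbout : b ∉ Subgroup.zpowers a := by
    intro hmem
    obtain ⟨k, hk⟩ := (isOfFinOrder_of_finite a).mem_powers_iff_mem_zpowers.mpr hmem
    simp only at hk
    rw [← pow_mod_orderOf, hao] at hk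
    exact coe_ne (Rep.ne rb (rpow ra (k % 4)) (bout _ (Nat.mod_lt _ (by norm_num)))) hk.symm
  have hxo : orderOf x = 3 := orderOf_eq_prime (pone rx 3 x3) (coe_ne (Rep.ne rx r1 x1))
  have hyout : y ∉ Subgroup.zpowers x := by
    intro hmem
    obtain ⟨k, hk⟩ := (isOfFinOrder_of_finite x).mem_powers_iff_mem_zpowers.mpr hmem
    simp only at hk
    rw [← pow_mod_orderOf, hxo] at hk
    exact coe_ne (Rep.ne ry (rpow rx (k % 3)) (yout _ (Nat.mod_lt _ (by norm_num)))) hk.symm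
  have hxy : Commute x y := Subtype.ext (Rep.unique (rx.comp ry) (Nat.eq_of_beq_eq_true xy ▸ ry.comp rx))
  have hyo : orderOf y = 3 := orderOf_eq_prime (pone ry 3 y3) fun e => hyout (e ▸ one_mem _)
  have hfo : orderOf f = 5 := orderOf_eq_prime (pone rf 5 f5) (coe_ne (Rep.ne rf r1 f51))
  have h8 : 2 ^ 3 ∣ Nat.card (Subgroup.closure ({a, b} : Set (alternatingGroup (Fin T.n)))) :=
    CfsgLib.StemSylow.pow_succ_dvd_card (i := 2) (j := 1) (by rw [hao]; norm_num)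
      (by rw [pow_one]; exact orderOf_eq_prime hbb fun e => hbout (e ▸ one_mem _))
      (by rw [hba]; exact inv_mem (Subgroup.mem_zpowers a)) hbout
  have h9 : 3 ^ 2 ∣ Nat.card (Subgroup.closure ({x, y} : Set (alternatingGroup (Fin T.n)))) :=
    CfsgLib.StemSylow.pow_succ_dvd_card (i := 1) (j := 1) (by rw [pow_one, hxo]) (by rw [pow_one, hyo])
      (by rw [← hxy.eq, mul_inv_cancel_right]; exact Subgroup.mem_zpowers x) hyout
  haveI : Nontrivial (Fin T.n) := ⟨⟨0, by omega⟩, ⟨1, by omega⟩, fun h => by simp [Fin.ext_iff] at h⟩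
  have hA : 2 * Nat.card (alternatingGroup (Fin T.n)) = T.n.factorial := by
    have := two_mul_card_alternatingGroup (α := Fin T.n)
    rwa [Fintype.card_perm, Fintype.card_fin, ← Nat.card_eq_fintype_card] at this
  have hr : ∀ w, σ₀ w ∈ σ₀.range := fun w => ⟨w, rfl⟩
  have d8 : 2 ^ 3 ∣ Nat.card σ₀.range := h8.trans (Subgroup.card_dvd_of_le
    ((Subgroup.closure_le _).mpr (by rintro _ (rfl | rfl) <;> exact hr _)))
  have d9 : 3 ^ 2 ∣ Nat.card σ₀.range := h9.trans (Subgroup.card_dvd_of_le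
    ((Subgroup.closure_le _).mpr (by rintro _ (rfl | rfl) <;> exact hr _)))
  have d5 : 5 ∣ Nat.card σ₀.range := by
    rw [← hfo, ← Nat.card_zpowers]; exact Subgroup.card_dvd_of_le (Subgroup.zpowers_le.mpr (hr _))
  have d7 : T.n = 7 → orderOf g = 7 := fun h => by
    rcases f7 with f7 | ⟨f7, f71⟩
    · exact absurd (Nat.eq_of_beq_eq_true f7) (by omega)
    · exact orderOf_eq_prime (pone rg 7 f7) (coe_ne (Rep.ne rg r1 f71))
  have hsurj : Function.Surjective σ₀ := by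
    rw [← MonoidHom.range_eq_top]
    refine Subgroup.eq_top_of_le_card _ ?_
    have h360 : 360 ∣ Nat.card σ₀.range := by
      have := Nat.Coprime.mul_dvd_of_dvd_of_dvd (by norm_num : Nat.Coprime (2 ^ 3 * 3 ^ 2) 5)
        (Nat.Coprime.mul_dvd_of_dvd_of_dvd (by norm_num) d8 d9) d5
      simpa using this
    rcases hn with h | h
    · rw [show T.n.factorial = 720 by rw [h]; rfl] at hA
      have := Nat.le_of_dvd Nat.card_pos h360
      omega
    · have h7 : 7 ∣ Nat.card σ₀.range := by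
        rw [← d7 h, ← Nat.card_zpowers]; exact Subgroup.card_dvd_of_le (Subgroup.zpowers_le.mpr (hr _))
      rw [show T.n.factorial = 5040 by rw [h]; rfl] at hA
      have := Nat.le_of_dvd Nat.card_pos (Nat.Coprime.mul_dvd_of_dvd_of_dvd (by norm_num) h360 h7)
      omega
  refine ⟨⟨Γ₀, inferInstance, inferInstance, σ₀, ⟨hsurj, hcen, hcomm⟩, hker⟩, fun Γ _ _ σ hσ => ?_⟩
  obtain ⟨c, hck, hc2, hcz⟩ := two_part hσ hao hba
  obtain ⟨u, huk, hu3, huz⟩ := three_part hσ (pone rx 3 x3) hxy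
  have hcu : Commute c u := Subgroup.mem_center_iff.mp (hσ.2.1 huk) c
  obtain ⟨lc, lu⟩ := ker_le_pair hcu hc2 hu3 (S := Subgroup.zpowers (c * u)) rfl
  refine ⟨c * u, mul_mem hck huk,
    by rw [hcu.mul_pow, show 6 = 2 * 3 from rfl, pow_mul, hc2, one_pow, one_mul, mul_comm, pow_mul, hu3, one_pow],
    fun w hw => ?_⟩
  have i5 := CfsgLib.StSL.pow_index_eq_one_of_cyclic hσ f hw
  have hidxdvd : ∀ (P : Subgroup (alternatingGroup (Fin T.n))) (m i : ℕ), 0 < m → m ∣ Nat.card P →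
      Nat.card (alternatingGroup (Fin T.n)) = m * i → P.index ∣ i := fun P m i hpos ⟨d, hd⟩ hG =>
    ⟨d, Nat.eq_of_mul_eq_mul_left hpos (by rw [← hG, ← P.card_mul_index, hd]; ring)⟩
  have up : ∀ {P : Subgroup (alternatingGroup (Fin T.n))} {i : ℕ}, w ^ P.index ∈ Subgroup.zpowers (c * u) →
      P.index ∣ i → w ^ i ∈ Subgroup.zpowers (c * u) := fun h ⟨d, hd⟩ => by
    rw [hd, pow_mul]; exact pow_mem h d
  have hd5 : 5 ∣ Nat.card (Subgroup.zpowers f) := by rw [Nat.card_zpowers, hfo]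
  rcases hn with h | h
  · rw [show T.n.factorial = 720 by rw [h]; rfl] at hA
    refine mem_of_pow_mem _ (l := [45, 40, 72]) ?_ (by norm_num)
    intro i hi
    simp only [List.mem_cons, List.not_mem_nil, or_false] at hi
    rcases hi with rfl | rfl | rfl
    · exact up (lc (hcz w hw)) (hidxdvd _ (2 ^ 3) _ (by norm_num) h8 (by omega))
    · exact up (lu (huz w hw)) (hidxdvd _ (3 ^ 2) _ (by norm_num) h9 (by omega))
    · exact up (i5.symm ▸ one_mem _) (hidxdvd _ 5 _ (by norm_num) hd5 (by omega))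
  · rw [show T.n.factorial = 5040 by rw [h]; rfl] at hA
    refine mem_of_pow_mem _ (l := [315, 280, 504, 360]) ?_ (by norm_num)
    intro i hi
    simp only [List.mem_cons, List.not_mem_nil, or_false] at hi
    rcases hi with rfl | rfl | rfl | rfl
    · exact up (lc (hcz w hw)) (hidxdvd _ (2 ^ 3) _ (by norm_num) h8 (by omega))
    · exact up (lu (huz w hw)) (hidxdvd _ (3 ^ 2) _ (by norm_num) h9 (by omega))
    · exact up (i5.symm ▸ one_mem _) (hidxdvd _ 5 _ (by norm_num) hd5 (by omega))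
    · exact up ((CfsgLib.StSL.pow_index_eq_one_of_cyclic hσ g hw).symm ▸ one_mem _)
        (hidxdvd (Subgroup.zpowers g) 7 _ (by norm_num) (by rw [Nat.card_zpowers, d7 h]) (by omega))

theorem checked_six : Six.tab.check = true ∧ markOK Six.tab Six.inverses Six.marks 3 5 = true := by decide +kernel

theorem checked_seven : Seven.tab.check = true ∧ markOK Seven.tab Seven.inverses Seven.marks 3 7 = true := by
  decide +kernel

theorem facts (n : ℕ) (hn : n = 6 ∨ n = 7) : (∃ (Γ : Type) (_ : Group Γ) (_ : Finite Γ)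
    (σ : Γ →* alternatingGroup (Fin n)), Cfsg.IsStemExtension σ ∧ Nat.card σ.ker = 3) ∧
    ∀ (Γ : Type) (_ : Group Γ) (_ : Finite Γ) (σ : Γ →* alternatingGroup (Fin n)),
      Cfsg.IsStemExtension σ → ∃ g ∈ σ.ker, g ^ 6 = 1 ∧ σ.ker ≤ Subgroup.zpowers g := by
  rcases hn with rfl | rfl
  · have F := facts_of_table Six.tab Six.inverses Six.marks 3 5 checked_six.2 checked_six.1 (Or.inl rfl) rfl
    exact ⟨F.triple, F.bound⟩
  · have F := facts_of_table Seven.tab Seven.inverses Seven.marks 3 7 checked_seven.2 checked_seven.1 (Or.inr rfl) rfl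
    exact ⟨F.triple, F.bound⟩

theorem multiplier (n : ℕ) (hn : n = 6 ∨ n = 7) : Cfsg.HasCyclicSchurMultiplier (alternatingGroup (Fin n)) 6 := by
  obtain ⟨⟨H₃, _, _, π₃, h₃, c₃⟩, hb⟩ := facts n hn
  obtain ⟨H₂, _, _, π₂, h₂, c₂⟩ := exists_double n (by omega)
  let F : Subgroup (H₂ × H₃) := (π₂.comp (MonoidHom.fst H₂ H₃)).eqLocus (π₃.comp (MonoidHom.snd H₂ H₃))
  have e₂ : ∀ x ∈ π₂.ker, x ^ 2 = 1 := fun x hx => by
    have := congrArg Subtype.val (pow_card_eq_one' (x := (⟨x, hx⟩ : π₂.ker)))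
    rw [c₂] at this; exact this
  have e₃ : ∀ x ∈ π₃.ker, x ^ 3 = 1 := fun x hx => by
    have := congrArg Subtype.val (pow_card_eq_one' (x := (⟨x, hx⟩ : π₃.ker)))
    rw [c₃] at this; exact this
  obtain ⟨hs, hk⟩ := fibre_stem π₂ π₃ h₂ h₃ (by norm_num : Nat.Coprime 2 3) e₂ e₃ (F := F) fun x => Iff.rfl
  let σ : F →* alternatingGroup (Fin n) := π₂.comp ((MonoidHom.fst H₂ H₃).comp F.subtype)
  have hst : Cfsg.IsStemExtension σ := ⟨fun a => by
      obtain ⟨p, hp⟩ := h₂.1 a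
      obtain ⟨y, hy⟩ := hs p
      exact ⟨y, by show π₂ (y : H₂ × H₃).1 = a; rw [hy, hp]⟩,
    fun y hy => (hk y hy).1, fun y hy => (hk y hy).2⟩
  let φ : σ.ker → π₂.ker × π₃.ker := fun y =>
    (⟨(y : H₂ × H₃).1, y.2⟩, ⟨((y : F) : H₂ × H₃).2, by
      have : π₂ ((y : F) : H₂ × H₃).1 = π₃ ((y : F) : H₂ × H₃).2 := (y : F).2
      rw [MonoidHom.mem_ker, ← this]; exact y.2⟩)
  have hφ : Function.Bijective φ := by
    refine ⟨fun y y' h => ?_, ?_⟩
    · exact Subtype.ext (Subtype.ext (Prod.ext (congrArg (fun p => (p.1 : H₂)) h) (congrArg (fun p => (p.2 : H₃)) h)))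
    · rintro ⟨⟨p, hp⟩, ⟨q, hq⟩⟩
      exact ⟨⟨⟨(p, q), (MonoidHom.mem_ker.mp hp).trans (MonoidHom.mem_ker.mp hq).symm⟩, hp⟩, rfl⟩
  have hc6 : Nat.card σ.ker = 6 := by rw [Nat.card_eq_of_bijective φ hφ, Nat.card_prod, c₂, c₃]
  obtain ⟨g, hg, -, hle⟩ := hb F inferInstance inferInstance σ hst
  have hcy : IsCyclic σ.ker := ⟨⟨g, hg⟩, fun x => by
    obtain ⟨k, hk⟩ := Subgroup.mem_zpowers_iff.mp (hle x.2)
    exact ⟨k, Subtype.ext (by simpa using hk)⟩⟩
  refine ⟨⟨F, inferInstance, inferInstance, σ, hst, ⟨mulEquivOfCyclicCardEq (by rw [hc6]; simp)⟩⟩,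
    fun Γ _ _ σ' hσ' => ?_⟩
  obtain ⟨g', hg', hg6, hle'⟩ := hb Γ inferInstance inferInstance σ' hσ'
  exact exists_surjective hg' hg6 hle'

end CfsgLib.AltMult
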