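/-
The multiplier of the special linear group of degree two over nine elements.
-/
import Mathlib
import Cfsg.Agent.S0497
import Cfsg.Agent.Lib.SLCard
import Cfsg.Agent.Lib.StSL.Two
import Cfsg.Agent.Lib.AltMult.Small

set_option autoImplicit false
set_option linter.style.haveILetI false

namespace CfsgLib.AltMult.SLNine

open Matrix

universe u v

variable {F : Type v} [Field F]

local notation "SL" => Matrix.SpecialLinearGroup (Fin 2) F

/-- The diagonal subgroup. -/
def dia : Fˣ →* SL where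
  toFun c := ⟨!![(c : F), 0; 0, ((c⁻¹ : Fˣ) : F)], by simp [Matrix.det_fin_two]⟩
  map_one' := Subtype.ext (by
    ext i j; fin_cases i <;> fin_cases j <;> simp)
  map_mul' c d := Subtype.ext (by
    show !![((c * d : Fˣ) : F), 0; 0, (((c * d)⁻¹ : Fˣ) : F)] =
      !![(c : F), 0; 0, ((c⁻¹ : Fˣ) : F)] * !![(d : F), 0; 0, ((d⁻¹ : Fˣ) : F)]
    ext i j; fin_cases i <;> fin_cases j <;> simp [Matrix.mul_apply, mul_comm])

/-- The upper unipotent subgroup. -/
def uni : Multiplicative F →* SL where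
  toFun t := ⟨!![1, Multiplicative.toAdd t; 0, 1], by simp [Matrix.det_fin_two]⟩
  map_one' := Subtype.ext (by
    ext i j; fin_cases i <;> fin_cases j <;> simp)
  map_mul' s t := Subtype.ext (by
    show !![(1 : F), Multiplicative.toAdd s + Multiplicative.toAdd t; 0, 1] =
      !![1, Multiplicative.toAdd s; 0, 1] * !![1, Multiplicative.toAdd t; 0, 1]
    ext i j; fin_cases i <;> fin_cases j <;> simp [Matrix.mul_apply, add_comm])

/-- The Weyl element. -/
def weyl : SL := ⟨!![0, 1; -1, 0], by simp [Matrix.det_fin_two]⟩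

theorem weyl_conj (c : Fˣ) : (weyl : SL) * dia c = dia c⁻¹ * weyl := Subtype.ext (by
  show !![(0 : F), 1; -1, 0] * !![(c : F), 0; 0, ((c⁻¹ : Fˣ) : F)] =
    !![((c⁻¹ : Fˣ) : F), 0; 0, (((c⁻¹)⁻¹ : Fˣ) : F)] * !![0, 1; -1, 0]
  ext i j; fin_cases i <;> fin_cases j <;> simp [Matrix.mul_apply])

theorem weyl_sq {c : Fˣ} (hc : (c : F) = -1) : (weyl : SL) * weyl = dia c := Subtype.ext (by
  have hci : ((c⁻¹ : Fˣ) : F) = -1 := by rw [Units.val_inv_eq_inv_val, hc]; norm_num
  show !![(0 : F), 1; -1, 0] * !![(0 : F), 1; -1, 0] = !![(c : F), 0; 0, ((c⁻¹ : Fˣ) : F)]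
  rw [hc, hci]
  ext i j; fin_cases i <;> fin_cases j <;> simp [Matrix.mul_apply])

variable [Fintype F]

theorem dia_injective : Function.Injective (dia : Fˣ →* SL) := fun c d h =>
  Units.ext (show (c : F) = d from congrArg (fun M : SL => M.1 0 0) h)

theorem uni_injective : Function.Injective (uni : Multiplicative F →* SL) := fun c d h =>
  Multiplicative.toAdd.injective (show Multiplicative.toAdd c = Multiplicative.toAdd d from
    congrArg (fun M : SL => M.1 0 1) h)

theorem card_nine (hF : Fintype.card F = 9) : Nat.card SL = 720 := by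
  rw [CfsgLib.SLCard.card_SL_two, hF]; norm_num

theorem bound (hF : Fintype.card F = 9) {Γ : Type u} [Group Γ] [Finite Γ] {σ : Γ →* SL}
    (hσ : Cfsg.IsStemExtension σ) : ∃ w ∈ σ.ker, w ^ 3 = 1 ∧ σ.ker ≤ Subgroup.zpowers w := by
  classical
  haveI : Fact (Nat.Prime 2) := ⟨Nat.prime_two⟩
  haveI : Fact (Nat.Prime 3) := ⟨Nat.prime_three⟩
  haveI : Fact (Nat.Prime 5) := ⟨Nat.prime_five⟩
  obtain ⟨ζ, hζ⟩ := IsCyclic.exists_generator (α := Fˣ)
  have hord : orderOf ζ = 8 := by
    rw [orderOf_eq_card_of_forall_mem_zpowers hζ, Nat.card_eq_fintype_card, Fintype.card_units, hF]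
  have h3 : (3 : F) = 0 := by
    have := FiniteField.cast_card_eq_zero F
    rw [hF] at this
    have h9 : (3 : F) * 3 = 0 := by norm_num; exact_mod_cast this
    exact mul_self_eq_zero.mp h9
  have hne4 : ζ ^ 4 ≠ 1 := pow_ne_one_of_lt_orderOf (by norm_num) (by rw [hord]; norm_num)
  have hz4 : ((ζ ^ 4 : Fˣ) : F) = -1 := by
    have h : ((ζ ^ 4 : Fˣ) : F) * ((ζ ^ 4 : Fˣ) : F) = 1 := by
      rw [← Units.val_mul, ← pow_add, show 4 + 4 = orderOf ζ from hord.symm, pow_orderOf_eq_one, Units.val_one]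
    rcases mul_self_eq_one_iff.mp h with h | h
    · exact absurd (Units.val_eq_one.mp h) hne4
    · exact h
  have hm1 : (-1 : F) ≠ 1 := fun h => hne4 (Units.val_eq_one.mp (hz4.trans h))
  let a : SL := dia ζ
  let b : SL := weyl
  have hao : orderOf a = 8 := by rw [orderOf_injective dia dia_injective, hord]
  have hbb : b * b = a ^ 4 := by rw [← map_pow]; exact weyl_sq hz4
  have hba : b * a * b⁻¹ = a⁻¹ := by rw [mul_inv_eq_iff_eq_mul, ← map_inv]; exact weyl_conj ζ
  have hbo : orderOf b = 2 ^ (1 + 1) := by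
    refine orderOf_eq_prime_pow (p := 2) (n := 1) ?_ ?_
    · rw [pow_one, sq, hbb, ← map_pow, ← map_one (dia : Fˣ →* SL)]
      exact fun h => hne4 (dia_injective h)
    · rw [show 2 ^ (1 + 1) = 2 * 2 from rfl, pow_mul, sq b, hbb, ← pow_mul]
      rw [show 4 * 2 = orderOf a from hao.symm]
      exact pow_orderOf_eq_one a
  have hbout : b ∉ Subgroup.zpowers a := by
    intro hmem
    obtain ⟨k, hk⟩ := Subgroup.mem_zpowers_iff.mp hmem
    rw [← map_zpow] at hk
    have h01 := congrArg (fun M : SL => M.1 0 1) hk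
    exact zero_ne_one (α := F) h01
  let x : SL := uni (Multiplicative.ofAdd 1)
  let y : SL := uni (Multiplicative.ofAdd (ζ : F))
  have hp3 : ∀ t : Multiplicative F, t ^ 3 = 1 := fun t => by
    apply Multiplicative.toAdd.injective
    rw [toAdd_pow, toAdd_one, nsmul_eq_mul, Nat.cast_ofNat, h3, zero_mul]
  have hx3 : x ^ 3 = 1 := by rw [← map_pow, hp3, map_one]
  have hy3 : y ^ 3 = 1 := by rw [← map_pow, hp3, map_one]
  have hxy : Commute x y := (Commute.all _ _).map uni
  have hxo : orderOf x = 3 := orderOf_eq_prime hx3 fun h => one_ne_zero (α := F)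
    (congrArg Multiplicative.toAdd (uni_injective (h.trans (map_one _).symm)))
  have hyo : orderOf y = 3 := orderOf_eq_prime hy3 fun h => ζ.ne_zero
    (congrArg Multiplicative.toAdd (uni_injective (h.trans (map_one _).symm)))
  have hyout : y ∉ Subgroup.zpowers x := by
    intro hmem
    obtain ⟨k, hk⟩ := (isOfFinOrder_of_finite x).mem_powers_iff_mem_zpowers.mpr hmem
    simp only at hk
    rw [← pow_mod_orderOf, hxo, ← map_pow] at hk
    have h := congrArg Multiplicative.toAdd (uni_injective hk)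
    rw [toAdd_pow, toAdd_ofAdd, toAdd_ofAdd, nsmul_eq_mul, mul_one] at h
    have h2 : ζ ^ 2 ≠ 1 := pow_ne_one_of_lt_orderOf (by norm_num) (by rw [hord]; norm_num)
    have hlt := Nat.mod_lt k (show 3 > 0 by norm_num)
    interval_cases k % 3
    · exact ζ.ne_zero (by simpa using h.symm)
    · have hz : ζ = 1 := Units.val_eq_one.mp (by simpa using h.symm)
      exact h2 (by rw [hz, one_pow])
    · refine h2 (Units.ext ?_)
      rw [Units.val_pow_eq_pow_val, ← h, Units.val_one]
      push_cast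
      linear_combination h3
  have hc := card_nine hF
  obtain ⟨f, hf⟩ := exists_prime_orderOf_dvd_card' 5 (show 5 ∣ Nat.card SL by rw [hc]; norm_num)
  obtain ⟨w, hw, hw3, hwz⟩ := three_part hσ hx3 hxy
  refine ⟨w, hw, hw3, fun z hz => ?_⟩
  have up : ∀ {P : Subgroup SL} {m i : ℕ}, z ^ P.index ∈ Subgroup.zpowers w → m ∣ Nat.card P → 0 < m →
      720 = m * i → z ^ i ∈ Subgroup.zpowers w := fun {P m i} h hd hpos e => by
    obtain ⟨d, hd⟩ := hd
    have hi : i = P.index * d := Nat.eq_of_mul_eq_mul_left hpos (by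
      rw [← e, ← hc, ← P.card_mul_index, hd]; ring)
    rw [hi, pow_mul]
    exact pow_mem h d
  refine mem_of_pow_mem _ (l := [45, 80, 144]) ?_ (by norm_num)
  intro i hi
  simp only [List.mem_cons, List.not_mem_nil, or_false] at hi
  rcases hi with rfl | rfl | rfl
  · exact up ((two_part_quaternion hσ hao hbb hba z hz).symm ▸ one_mem _)
      (CfsgLib.StemSylow.pow_succ_dvd_card (i := 3) (j := 2) (p := 2) (by rw [hao]; norm_num) hbo
        (by rw [hba]; exact inv_mem (Subgroup.mem_zpowers a)) hbout) (by norm_num) (by norm_num)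
  · exact up (hwz z hz) (CfsgLib.StemSylow.pow_succ_dvd_card (i := 1) (j := 1) (p := 3) (by rw [hxo, pow_one])
      (by rw [hyo, pow_one]) (by rw [← hxy.eq, mul_inv_cancel_right]; exact Subgroup.mem_zpowers x) hyout)
      (by norm_num) (by norm_num)
  · exact up ((CfsgLib.StSL.pow_index_eq_one_of_cyclic hσ f hz).symm ▸ one_mem _)
      (by rw [Nat.card_zpowers, hf]) (by norm_num) (by norm_num)

theorem multiplier (hF : Fintype.card F = 9) : Cfsg.HasCyclicSchurMultiplier SL 3 := by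
  classical
  haveI : IsSimpleGroup (ProjectiveSpecialLinearGroup (Fin 2) F) :=
    ProjectiveSpecialLinearGroup.rank_two_simple (by rw [Nat.card_eq_fintype_card, hF]; norm_num)
  have hP : Nat.card (ProjectiveSpecialLinearGroup (Fin 2) F) = 360 := by
    have h := CfsgLib.SLCard.gcd_mul_card_PSL (F := F) (n := 2) (by norm_num)
    rw [hF, card_nine hF] at h
    rw [show Nat.gcd 2 (9 - 1) = 2 by norm_num] at h
    omega
  obtain ⟨e⟩ := Cfsg.Agent.S0497.result hP
  let φ : SL →* alternatingGroup (Fin 6) := e.toMonoidHom.comp (QuotientGroup.mk' _)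
  have hφk : φ.ker = Subgroup.center SL := by
    ext g
    show e (g : SL ⧸ Subgroup.center SL) = 1 ↔ _
    rw [map_eq_one_iff e e.injective, QuotientGroup.eq_one_iff]
  have hφ : Cfsg.IsStemExtension φ := ⟨e.surjective.comp (QuotientGroup.mk'_surjective _), hφk.le,
    fun x _ => by rw [CfsgLib.StSL.perfect_SL2 (by omega)]; exact Subgroup.mem_top x⟩
  have e₁ : ∀ x ∈ φ.ker, x ^ 2 = 1 := fun x hx => by
    have := congrArg Subtype.val (pow_card_eq_one' (x := (⟨x, hφk ▸ hx⟩ : Subgroup.center SL)))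
    rw [CfsgLib.SLCard.card_SL_center (F := F) (by norm_num), hF] at this
    simpa using this
  obtain ⟨⟨H₃, _, _, π₃, h₃, c₃⟩, -⟩ := facts 6 (Or.inl rfl)
  have e₃ : ∀ x ∈ π₃.ker, x ^ 3 = 1 := fun x hx => by
    have := congrArg Subtype.val (pow_card_eq_one' (x := (⟨x, hx⟩ : π₃.ker)))
    rw [c₃] at this; exact this
  let K : Subgroup (SL × H₃) := (φ.comp (MonoidHom.fst SL H₃)).eqLocus (π₃.comp (MonoidHom.snd SL H₃))
  obtain ⟨hs, hk⟩ := fibre_stem φ π₃ hφ h₃ (by norm_num : Nat.Coprime 2 3) e₁ e₃ (F := K) fun x => Iff.rfl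
  let σ : K →* SL := (MonoidHom.fst SL H₃).comp K.subtype
  have h1 : ∀ {y : K}, y ∈ σ.ker → (y : SL × H₃).1 ∈ φ.ker := fun {y} hy => by
    rw [show (y : SL × H₃).1 = 1 from hy]; exact one_mem _
  have hst : Cfsg.IsStemExtension σ :=
    ⟨fun x => by obtain ⟨y, hy⟩ := hs x; exact ⟨y, hy⟩, fun y hy => (hk y (h1 hy)).1, fun y hy => (hk y (h1 hy)).2⟩
  let ψ : σ.ker → π₃.ker := fun y => ⟨((y : K) : SL × H₃).2, by
    have : φ ((y : K) : SL × H₃).1 = π₃ ((y : K) : SL × H₃).2 := (y : K).2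
    rw [MonoidHom.mem_ker, ← this, show ((y : K) : SL × H₃).1 = 1 from y.2, map_one]⟩
  have hψ : Function.Bijective ψ := by
    refine ⟨fun y y' h => Subtype.ext (Subtype.ext (Prod.ext ?_ (congrArg Subtype.val h))), ?_⟩
    · exact (y.2 : ((y : K) : SL × H₃).1 = 1).trans (y'.2 : ((y' : K) : SL × H₃).1 = 1).symm
    · rintro ⟨q, hq⟩
      exact ⟨⟨⟨(1, q), (map_one φ).trans (MonoidHom.mem_ker.mp hq).symm⟩, rfl⟩, rfl⟩
  haveI : Fact (Nat.Prime 3) := ⟨Nat.prime_three⟩
  refine ⟨⟨K, inferInstance, inferInstance, σ, hst,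
    ⟨mulEquivOfPrimeCardEq ((Nat.card_eq_of_bijective ψ hψ).trans c₃) (by simp)⟩⟩, fun Γ _ _ σ' hσ' => ?_⟩
  obtain ⟨w, hw, hw3, hle⟩ := bound hF hσ'
  exact exists_surjective hw hw3 hle

end CfsgLib.AltMult.SLNine
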