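/-
Triple covers of alternating groups from a table of paired permutations.

Each element of the alternating group is listed with one lift, a permutation of `k` points; the table
checks that the lifts times the powers of a central shift are closed under both generators, so the
group the pairs generate is a stem extension with kernel of order three.
-/
import Mathlib

set_option autoImplicit false
set_option linter.style.haveILetI false

namespace CfsgLib.AltMult

open Equiv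
open scoped commutatorElement

/-- Six-bit fields. -/
def ap (c i : ℕ) : ℕ := (c >>> (6 * i)) % 64

def pk (f : ℕ → ℕ) : ℕ → ℕ
  | 0 => 0
  | k + 1 => pk f k + f k * 2 ^ (6 * k)

theorem pk_spec (f : ℕ → ℕ) (hf : ∀ i, f i < 64) :
    ∀ k, pk f k < 2 ^ (6 * k) ∧ ∀ i < k, ap (pk f k) i = f i := by
  intro k
  induction k with
  | zero => simp [pk]
  | succ k ih =>
    obtain ⟨h1, h2⟩ := ih
    have hpow : 2 ^ (6 * (k + 1)) = 2 ^ (6 * k) * 64 := by rw [Nat.mul_succ, pow_add]; norm_num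
    refine ⟨?_, fun i hi => ?_⟩
    · rw [hpow, pk]
      have := hf k
      calc pk f k + f k * 2 ^ (6 * k) < 2 ^ (6 * k) + f k * 2 ^ (6 * k) := by omega
        _ = (f k + 1) * 2 ^ (6 * k) := by ring
        _ ≤ 64 * 2 ^ (6 * k) := by gcongr; omega
        _ = _ := by ring
    · simp only [ap, pk, Nat.shiftRight_eq_div_pow] at h2 ⊢
      rcases Nat.lt_succ_iff_lt_or_eq.mp hi with hik | rfl
      · rw [← h2 i hik]
        obtain ⟨d, hd⟩ : ∃ d, k = i + (d + 1) := ⟨k - i - 1, by omega⟩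
        have : f k * 2 ^ (6 * k) = (f k * 2 ^ (6 * d) * 64) * 2 ^ (6 * i) := by
          rw [hd]; ring_nf
        rw [this, Nat.add_mul_div_right _ _ (Nat.two_pow_pos _), Nat.add_mul_mod_self_right]
      · rw [Nat.add_mul_div_right _ _ (Nat.two_pow_pos _), Nat.div_eq_of_lt h1, Nat.zero_add,
          Nat.mod_eq_of_lt (hf _)]

def cp (k c d : ℕ) : ℕ := pk (fun i => ap c (ap d i)) k

def idk (k : ℕ) : ℕ := pk (fun i => i % 64) k

/-- A code with an inverse. -/
def isPerm (k c ci : ℕ) : Bool :=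
  (List.range k).all fun i => Nat.blt (ap c i) k && Nat.blt (ap ci i) k && Nat.beq (ap c (ap ci i)) i &&
    Nat.beq (ap ci (ap c i)) i

def differs (k c d : ℕ) : Bool := (List.range k).any fun i => !Nat.beq (ap c i) (ap d i)

/-- `g` is coded by `c`. -/
def Rep (k c : ℕ) (g : Perm (Fin k)) : Prop := ∀ i : Fin k, ap c i = (g i : ℕ)

theorem Rep.comp {k c d : ℕ} {g h : Perm (Fin k)} (hc : Rep k c g) (hd : Rep k d h) : Rep k (cp k c d) (g * h) := by
  intro i
  rw [cp, (pk_spec (fun i => ap c (ap d i)) (fun _ => Nat.mod_lt _ (by norm_num)) k).2 _ i.2, hd i, hc (h i)]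
  rfl

theorem Rep.unique {k c : ℕ} {g h : Perm (Fin k)} (hg : Rep k c g) (hh : Rep k c h) : g = h :=
  Equiv.ext fun i => Fin.ext (by rw [← hg i, ← hh i])

theorem rep_id {k : ℕ} (hk : k ≤ 64) : Rep k (idk k) 1 := fun i => by
  rw [idk, (pk_spec (fun i => i % 64) (fun _ => Nat.mod_lt _ (by norm_num)) k).2 _ i.2,
    Nat.mod_eq_of_lt (lt_of_lt_of_le i.2 hk)]
  rfl

theorem Rep.ne {k c d : ℕ} {g h : Perm (Fin k)} (hg : Rep k c g) (hh : Rep k d h) (hd : differs k c d = true) :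
    g ≠ h := by
  rintro rfl
  simp only [differs, List.any_eq_true, List.mem_range, Bool.not_eq_true'] at hd
  obtain ⟨i, hi, he⟩ := hd
  rw [hg ⟨i, hi⟩, hh ⟨i, hi⟩, Nat.beq_refl] at he
  exact Bool.false_ne_true he.symm

theorem exists_rep {k c ci : ℕ} (h : isPerm k c ci = true) : ∃ g : Perm (Fin k), Rep k c g := by
  simp only [isPerm, List.all_eq_true, List.mem_range, Bool.and_eq_true, Nat.blt_eq] at h
  refine ⟨⟨fun i => ⟨ap c i, (h i i.2).1.1.1⟩, fun i => ⟨ap ci i, (h i i.2).1.1.2⟩,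
    fun i => Fin.ext (Nat.eq_of_beq_eq_true (h i i.2).2), fun i => Fin.ext (Nat.eq_of_beq_eq_true (h i i.2).1.2)⟩,
    fun i => rfl⟩

/-- A table: lifts, parents and successors. -/
structure Tab where
  n : ℕ
  k : ℕ
  size : ℕ
  ga : ℕ × ℕ
  gb : ℕ × ℕ
  zc : ℕ
  els : List (List (ℕ × ℕ))
  par : List (List (ℕ × ℕ))
  succ : List (List (ℕ × ℕ))
  comm : ℕ × ℕ

namespace Tab

variable (T : Tab)

def get (l : List (List (ℕ × ℕ))) (i : ℕ) : ℕ × ℕ := (l.getD (i / 50) []).getD (i % 50) (0, 0)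

def el (i : ℕ) : ℕ × ℕ := get T.els i

def gen (g : ℕ) : ℕ × ℕ := if g = 0 then T.ga else T.gb

def zp : ℕ → ℕ
  | 0 => idk T.k
  | t + 1 => cp T.k T.zc (zp t)

def treeOK (i : ℕ) : Bool :=
  Nat.beq i 0 || (Nat.blt (get T.par i).2 i &&
    Nat.beq (T.el i).1 (cp T.n (T.gen (get T.par i).1).1 (T.el (get T.par i).2).1) &&
    Nat.beq (T.el i).2 (cp T.k (T.gen (get T.par i).1).2 (T.el (get T.par i).2).2) &&
    differs T.n (T.el i).1 (idk T.n))

def closedOK (i g : ℕ) : Bool :=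
  Nat.blt (get T.succ (2 * i + g)).1 T.size &&
    Nat.beq (cp T.n (T.gen g).1 (T.el i).1) (T.el (get T.succ (2 * i + g)).1).1 &&
    Nat.beq (cp T.k (T.gen g).2 (T.el i).2)
      (cp T.k (T.zp (get T.succ (2 * i + g)).2) (T.el (get T.succ (2 * i + g)).1).2)

def check : Bool :=
  Nat.blt T.k 65 && Nat.blt T.n 65 && Nat.blt 0 T.size &&
    Nat.beq (T.el 0).1 (idk T.n) && Nat.beq (T.el 0).2 (idk T.k) &&
    ((List.range T.size).all fun i => T.treeOK i && T.closedOK i 0 && T.closedOK i 1) &&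
    Nat.beq (cp T.k T.zc T.ga.2) (cp T.k T.ga.2 T.zc) && Nat.beq (cp T.k T.zc T.gb.2) (cp T.k T.gb.2 T.zc) &&
    Nat.beq (T.zp 3) (idk T.k) && differs T.k T.zc (idk T.k) &&
    Nat.blt T.comm.1 T.size && Nat.blt T.comm.2 T.size &&
    Nat.beq (cp T.n (T.el T.comm.1).1 (T.el T.comm.2).1) (cp T.n (T.el T.comm.2).1 (T.el T.comm.1).1) &&
    Nat.beq (cp T.k (T.el T.comm.1).2 (T.el T.comm.2).2)
      (cp T.k T.zc (cp T.k (T.el T.comm.2).2 (T.el T.comm.1).2))

/-- The group of a checked table. -/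
theorem exists_cover (h : T.check = true) {ga gb : alternatingGroup (Fin T.n)} (ha : Rep T.n T.ga.1 (ga : Perm (Fin T.n)))
    (hb : Rep T.n T.gb.1 (gb : Perm (Fin T.n))) {gA gB z : Perm (Fin T.k)} (hA : Rep T.k T.ga.2 gA)
    (hB : Rep T.k T.gb.2 gB) (hz : Rep T.k T.zc z) :
    ∃ (Γ : Type) (_ : Group Γ) (_ : Finite Γ) (σ : Γ →* alternatingGroup (Fin T.n)), σ.ker ≤ Subgroup.center Γ ∧
      σ.ker ≤ commutator Γ ∧ Nat.card σ.ker = 3 ∧
      ∀ i < T.size, ∃ x, Rep T.n (T.el i).1 ((σ x : alternatingGroup (Fin T.n)) : Perm (Fin T.n)) := by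
  simp only [check, Bool.and_eq_true, Nat.blt_eq, List.all_eq_true, List.mem_range] at h
  obtain ⟨⟨⟨⟨⟨⟨⟨⟨⟨⟨⟨⟨⟨hk, hn⟩, hs⟩, h01⟩, h02⟩, hall⟩, hza⟩, hzb⟩, hz3⟩, hzne⟩, hc1⟩, hc2⟩, hcn⟩, hck⟩ := h
  let P := alternatingGroup (Fin T.n) × Perm (Fin T.k)
  let Γ : Subgroup P := Subgroup.closure {((ga, gA) : P), (gb, gB)}
  have hgen : ∀ g, ∃ x ∈ Γ, Rep T.n (T.gen g).1 (x.1 : Perm (Fin T.n)) ∧ Rep T.k (T.gen g).2 x.2 := by
    intro g
    by_cases hg : g = 0
    · exact ⟨(ga, gA), Subgroup.subset_closure (Or.inl rfl), by simp [gen, hg, ha], by simp [gen, hg, hA]⟩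
    · exact ⟨(gb, gB), Subgroup.subset_closure (Or.inr rfl), by simp [gen, hg, hb], by simp [gen, hg, hB]⟩
  have hone1 : Rep T.n (idk T.n) ((1 : alternatingGroup (Fin T.n)) : Perm (Fin T.n)) := rep_id (by omega)
  have hex : ∀ i, i < T.size → ∃ x ∈ Γ, Rep T.n (T.el i).1 (x.1 : Perm (Fin T.n)) ∧ Rep T.k (T.el i).2 x.2 := by
    intro i
    induction i using Nat.strong_induction_on with
    | _ i ih =>
      intro hi
      have := (hall i hi).1.1
      simp only [treeOK, Bool.or_eq_true, Bool.and_eq_true, Nat.blt_eq] at this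
      rcases this with h0 | ⟨⟨⟨hj, e1⟩, e2⟩, -⟩
      · obtain rfl := Nat.eq_of_beq_eq_true h0
        exact ⟨1, one_mem _, (Nat.eq_of_beq_eq_true h01).symm ▸ hone1,
          (Nat.eq_of_beq_eq_true h02).symm ▸ rep_id (by omega)⟩
      · obtain ⟨g, hg, hg1, hg2⟩ := hgen (get T.par i).1
        obtain ⟨x, hx, hx1, hx2⟩ := ih _ hj (by omega)
        refine ⟨g * x, mul_mem hg hx, ?_, ?_⟩
        · rw [Nat.eq_of_beq_eq_true e1]; exact hg1.comp hx1
        · rw [Nat.eq_of_beq_eq_true e2]; exact hg2.comp hx2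
  choose E hEm hE1 hE2 using hex
  let Z : P := (1, z)
  have hzp : ∀ t, Rep T.k (T.zp t) (z ^ t) := fun t => by
    induction t with
    | zero => rw [pow_zero, zp]; exact rep_id (by omega)
    | succ t ih => rw [pow_succ', zp]; exact hz.comp ih
  have hZt : ∀ t, (Z ^ t).1 = 1 ∧ (Z ^ t).2 = z ^ t := fun t =>
    ⟨(Prod.pow_fst Z t).trans (one_pow t), Prod.pow_snd Z t⟩
  have hcomm : ∀ x ∈ Γ, Commute Z x := by
    intro x hx
    induction hx using Subgroup.closure_induction with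
    | mem y hy =>
      rcases hy with rfl | rfl
      · exact Prod.ext ((one_mul _).trans (mul_one _).symm) (Rep.unique (hz.comp hA) (Nat.eq_of_beq_eq_true hza ▸ hA.comp hz))
      · exact Prod.ext ((one_mul _).trans (mul_one _).symm) (Rep.unique (hz.comp hB) (Nat.eq_of_beq_eq_true hzb ▸ hB.comp hz))
    | one => exact Commute.one_right _
    | mul a b _ _ ha hb => exact ha.mul_right hb
    | inv a _ ha => exact ha.inv_right
  let S : Set P := {x | ∃ (i : ℕ) (hi : i < T.size) (t : ℕ), x = Z ^ t * E i hi}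
  have hclosed : ∀ g ∈ ({((ga, gA) : P), (gb, gB)} : Set P), ∀ y ∈ S, g * y ∈ S := by
    rintro g hg _ ⟨i, hi, t, rfl⟩
    have key : ∃ m, (m = 0 ∨ m = 1) ∧ Rep T.n (T.gen m).1 (g.1 : Perm (Fin T.n)) ∧ Rep T.k (T.gen m).2 g.2 := by
      rcases hg with rfl | rfl
      · exact ⟨0, Or.inl rfl, by simpa [gen] using ha, by simpa [gen] using hA⟩
      · exact ⟨1, Or.inr rfl, by simpa [gen] using hb, by simpa [gen] using hB⟩
    obtain ⟨m, hm, hg1, hg2⟩ := key
    have hc : T.closedOK i m = true := by rcases hm with rfl | rfl; exacts [(hall i hi).1.2, (hall i hi).2]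
    simp only [closedOK, Bool.and_eq_true, Nat.blt_eq] at hc
    obtain ⟨⟨hj, e1⟩, e2⟩ := hc
    set j := (get T.succ (2 * i + m)).1
    set u := (get T.succ (2 * i + m)).2
    have he : g * E i hi = Z ^ u * E j hj := by
      refine Prod.ext (Subtype.ext ?_) ?_
      · refine Rep.unique (hg1.comp (hE1 i hi)) ?_
        rw [Nat.eq_of_beq_eq_true e1, Prod.fst_mul, (hZt u).1, one_mul]
        exact hE1 j hj
      · refine Rep.unique (hg2.comp (hE2 i hi)) ?_
        rw [Nat.eq_of_beq_eq_true e2, Prod.snd_mul, (hZt u).2]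
        exact (hzp u).comp (hE2 j hj)
    have hgΓ : g ∈ Γ := Subgroup.subset_closure hg
    refine ⟨j, hj, t + u, ?_⟩
    rw [← mul_assoc, ← ((hcomm g hgΓ).pow_left t).eq, mul_assoc, he, ← mul_assoc, ← pow_add]
  have hone : (1 : P) ∈ S := ⟨0, hs, 0, by
    rw [pow_zero, one_mul]
    exact Prod.ext (Subtype.ext (Rep.unique hone1 (Nat.eq_of_beq_eq_true h01 ▸ hE1 0 hs)))
      (Rep.unique (rep_id (by omega)) (Nat.eq_of_beq_eq_true h02 ▸ hE2 0 hs))⟩
  have hΓ : ∀ x ∈ Γ, x ∈ S := by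
    intro x hx
    induction hx using Subgroup.closure_induction_left with
    | one => exact hone
    | mul_left g hg y _ hy => exact hclosed g hg y hy
    | inv_mul_cancel g hg y _ hy =>
      have hp : ∀ m : ℕ, g ^ m * y ∈ S := fun m => by
        induction m with
        | zero => simpa using hy
        | succ m ih => rw [pow_succ', mul_assoc]; exact hclosed g hg _ ih
      obtain ⟨m, hm⟩ := (isOfFinOrder_of_finite g).mem_powers_iff_mem_zpowers.mpr (inv_mem (Subgroup.mem_zpowers g))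
      simp only at hm
      rw [← hm]; exact hp m
  obtain ⟨hza', hzE⟩ : (E _ hc1 * E _ hc2 = Z * (E _ hc2 * E _ hc1)) ∧ True := by
    refine ⟨Prod.ext (Subtype.ext ?_) ?_, trivial⟩
    · refine Rep.unique ((hE1 _ hc1).comp (hE1 _ hc2)) ?_
      rw [Nat.eq_of_beq_eq_true hcn, show (Z * (E _ hc2 * E _ hc1)).1 = (E _ hc2).1 * (E _ hc1).1 from one_mul _]
      exact (hE1 _ hc2).comp (hE1 _ hc1)
    · refine Rep.unique ((hE2 _ hc1).comp (hE2 _ hc2)) ?_
      rw [Nat.eq_of_beq_eq_true hck]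
      exact hz.comp ((hE2 _ hc2).comp (hE2 _ hc1))
  let e₁ : Γ := ⟨E _ hc1, hEm _ hc1⟩
  let e₂ : Γ := ⟨E _ hc2, hEm _ hc2⟩
  have hZe : Z = ((⁅e₁, e₂⁆ : Γ) : P) := by
    show Z = E _ hc1 * E _ hc2 * (E _ hc1)⁻¹ * (E _ hc2)⁻¹
    rw [hza', ← mul_assoc, mul_inv_cancel_right, mul_inv_cancel_right]
  have hZΓ : Z ∈ Γ := hZe ▸ SetLike.coe_mem _
  let Zg : Γ := ⟨Z, hZΓ⟩
  have hZc : Zg ∈ commutator Γ := by
    rw [show Zg = ⁅e₁, e₂⁆ from Subtype.ext hZe, commutator_def]
    exact Subgroup.commutator_mem_commutator (Subgroup.mem_top _) (Subgroup.mem_top _)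
  let σ : Γ →* alternatingGroup (Fin T.n) := (MonoidHom.fst _ _).comp Γ.subtype
  have hker : σ.ker = Subgroup.zpowers Zg := by
    refine le_antisymm (fun x hx => ?_) ?_
    · obtain ⟨i, hi, t, e⟩ := hΓ _ x.2
      have h1 : (x : P).1 = 1 := hx
      rw [e, Prod.fst_mul, (hZt t).1, one_mul] at h1
      have hi0 : i = 0 := by
        by_contra hne
        have := (hall i hi).1.1
        simp only [treeOK, Bool.or_eq_true, Bool.and_eq_true] at this
        rcases this with h0 | ⟨-, hd⟩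
        · exact hne (Nat.eq_of_beq_eq_true h0)
        · exact Rep.ne (hE1 i hi) hone1 hd (by rw [h1])
      subst hi0
      have hE0 : E 0 hi = 1 := Prod.ext h1 (Rep.unique (hE2 0 hi) ((Nat.eq_of_beq_eq_true h02).symm ▸ rep_id (by omega)))
      rw [hE0, mul_one] at e
      exact Subgroup.mem_zpowers_iff.mpr ⟨t, Subtype.ext (by rw [zpow_natCast, Subgroup.coe_pow]; exact e.symm)⟩
    · rw [Subgroup.zpowers_le, MonoidHom.mem_ker]; rfl
  haveI : Fact (Nat.Prime 3) := ⟨Nat.prime_three⟩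
  have hord : orderOf Zg = 3 := by
    refine orderOf_eq_prime (Subtype.ext ?_) ?_
    · rw [Subgroup.coe_pow]
      exact Prod.ext (hZt 3).1 ((hZt 3).2.trans (Rep.unique (hzp 3) ((Nat.eq_of_beq_eq_true hz3).symm ▸ rep_id (by omega))))
    · intro e
      exact Rep.ne hz (rep_id (by omega)) hzne (congrArg (fun x : Γ => (x : P).2) e)
  refine ⟨Γ, inferInstance, inferInstance, σ, ?_, ?_, ?_, fun i hi => ⟨⟨E i hi, hEm i hi⟩, hE1 i hi⟩⟩
  · rw [hker, Subgroup.zpowers_le, Subgroup.mem_center_iff]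
    exact fun g => Subtype.ext ((hcomm g g.2).symm)
  · rw [hker, Subgroup.zpowers_le]; exact hZc
  · rw [hker, Nat.card_zpowers, hord]

end Tab

end CfsgLib.AltMult
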